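import Groth.Agent.EtPtLib.Field

set_option linter.all false
set_option backward.isDefEq.respectTransparency false
set_option backward.isDefEq.respectTransparency.types false

universe u

open CategoryTheory Limits AlgebraicGeometry Opposite TopologicalSpace Polynomial

namespace Groth.Agent.EtPtLib

variable {S : Scheme.{u}} (p : GrothendieckTopology.Point.{u} S.smallEtaleTopology)

instance (priority := low) locallyQuasiFinite_etale {A B : Scheme.{u}} (f : A ⟶ B) [Etale f] :
    LocallyQuasiFinite f := by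
  refine ⟨fun {O} hO {O'} hO' e => ?_⟩
  have h := HasRingHomProperty.appLE @Etale f ‹_› ⟨O, hO⟩ ⟨O', hO'⟩ e
  algebraize [(f.appLE O O' e).hom]
  exact inferInstanceAs (Algebra.QuasiFinite Γ(B, O) Γ(A, O'))

lemma exists_affine_elem : ∃ (U : S.Etale) (_ : IsAffine U.left), Nonempty (p.fiber.obj U) := by
  obtain ⟨⟨U, x⟩⟩ := (inferInstance : IsCofiltered p.fiber.Elements).nonempty
  obtain ⟨W, hW, -, -, y, -⟩ := exists_affine x ⊤ trivial
  exact ⟨opn U W, hW, ⟨y⟩⟩

lemma exists_elem_range [DecidableEq (Om p)] {U : S.Etale} (x : p.fiber.obj U) (G : Finset (Om p)) :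
    ∃ (T : S.Etale) (_ : IsAffine T.left) (t : p.fiber.obj T) (h : T ⟶ U), p.fiber.map h t = x ∧
      ∀ ω ∈ G, ∃ a, th p t a = ω := by
  induction G using Finset.induction with
  | empty =>
    obtain ⟨W, hW, -, -, y, hy⟩ := exists_affine x ⊤ trivial
    exact ⟨opn U W, hW, y, incl U W, hy, fun ω h => absurd h (Finset.notMem_empty ω)⟩
  | @insert ω G _ ih =>
    obtain ⟨T, _, t, h, ht, hG⟩ := ih
    obtain ⟨q, hq⟩ := IsLocalRing.residue_surjective ω
    obtain ⟨V, v, a, ha⟩ := exists_toOP p q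
    let e1 : p.fiber.Elements := ⟨T, t⟩
    let e2 : p.fiber.Elements := ⟨V, v⟩
    obtain ⟨⟨T', t'⟩, ⟨α, hα⟩, ⟨β, hβ⟩, -⟩ := IsCofilteredOrEmpty.cone_objs e1 e2
    obtain ⟨W, hW, -, -, y, hy⟩ := exists_affine (p := p) t' ⊤ trivial
    refine ⟨opn T' W, hW, y, incl T' W ≫ α ≫ h, ?_, fun ω' h' => ?_⟩
    · rw [Functor.map_comp_apply, Functor.map_comp_apply, hy]
      exact (congrArg _ hα).trans ht
    · rcases Finset.mem_insert.mp h' with rfl | h'
      · refine ⟨(incl T' W ≫ β).left.appTop a, ?_⟩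
        rw [th_map, Functor.map_comp_apply, hy]
        exact (congrArg (fun w => th p w a) hβ).trans
          ((congrArg (IsLocalRing.residue (OP p)) ha).trans hq)
      · obtain ⟨b, hb⟩ := hG ω' h'
        refine ⟨(incl T' W ≫ α).left.appTop b, ?_⟩
        rw [th_map, Functor.map_comp_apply, hy]
        exact (congrArg (fun w => th p w b) hα).trans hb

instance isSepClosed_Om : IsSepClosed (Om p) := by
  classical
  refine IsSepClosed.of_exists_root _ fun f hf hirr hsep => ?_
  obtain ⟨U₀, _, ⟨x₀⟩⟩ := exists_affine_elem p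
  obtain ⟨U, _, x, h, -, hG⟩ := exists_elem_range p x₀ f.coeffs
  have hl : f ∈ Polynomial.lifts (th p x) := by
    rw [Polynomial.lifts_iff_coeff_lifts]
    intro n
    by_cases h0 : f.coeff n = 0
    · exact ⟨0, by rw [map_zero, h0]⟩
    · obtain ⟨a, ha⟩ := hG _ (Polynomial.coeff_mem_coeffs h0)
      exact ⟨a, ha⟩
  obtain ⟨F, hFf, -, hF⟩ := Polynomial.lifts_and_degree_eq_and_monic hl hf
  let P : StandardEtalePair Γ(U.left, ⊤) := ⟨F, hF, derivative F, 1, 0, 1, by simp⟩
  let φ : CommRingCat.of Γ(U.left, ⊤) ⟶ CommRingCat.of P.Ring :=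
    CommRingCat.ofHom (algebraMap Γ(U.left, ⊤) P.Ring)
  haveI : Etale (Spec.map φ) :=
    (HasRingHomProperty.Spec_iff (P := @Etale)).mpr (RingHom.etale_algebraMap.mpr inferInstance)
  let gmor : Spec (CommRingCat.of P.Ring) ⟶ U.left := Spec.map φ ≫ U.left.isoSpec.inv
  let W : S.Etale := MorphismProperty.Over.mk ⊤ (gmor ≫ U.hom)
    (MorphismProperty.comp_mem _ _ _ (MorphismProperty.comp_mem _ _ _ inferInstance inferInstance) U.prop)
  let g : W ⟶ U := MorphismProperty.Over.homMk gmor rfl trivial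
  haveI : Etale gmor := MorphismProperty.comp_mem _ _ _ inferInstance inferInstance
  let V : U.left.Opens := ⟨Set.range gmor, gmor.isOpenMap.isOpen_range⟩
  have hxV : pt p x ∈ V := by
    let K := AlgebraicClosure (Om p)
    obtain ⟨α, hα⟩ := IsAlgClosed.exists_aeval_eq_zero K f (by
      intro hd
      exact hirr.not_isUnit (isUnit_iff_degree_eq_zero.mpr hd))
    letI : Algebra Γ(U.left, ⊤) K := ((algebraMap (Om p) K).comp (th p x)).toAlgebra
    have hm : ∀ G : Polynomial Γ(U.left, ⊤), aeval α G = aeval α (G.map (th p x)) := by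
      intro G
      rw [aeval_def, aeval_def, eval₂_map]
      rfl
    have hmap : P.HasMap α := by
      refine ⟨?_, ?_⟩
      · rw [hm]; show aeval α (F.map (th p x)) = 0; rw [hFf, hα]
      · rw [hm]
        show IsUnit (aeval α ((derivative F).map (th p x)))
        rw [← derivative_map, hFf]
        exact isUnit_iff_ne_zero.mpr (hsep.aeval_derivative_ne_zero hα)
    let ψ : CommRingCat.of P.Ring ⟶ CommRingCat.of K := CommRingCat.ofHom (P.lift α hmap).toRingHom
    have hψ : φ ≫ ψ = CommRingCat.ofHom (th p x) ≫ CommRingCat.ofHom (algebraMap (Om p) K) := by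
      ext a
      exact (P.lift α hmap).commutes a
    refine ⟨(Spec.map ψ) default, ?_⟩
    show (Spec.map ψ ≫ gmor) default = pt p x
    rw [show Spec.map ψ ≫ gmor = Spec.map (CommRingCat.ofHom (algebraMap (Om p) K)) ≫ evA p x from by
      rw [← Category.assoc, ← Spec.map_comp, hψ, Spec.map_comp, Category.assoc]; rfl]
    exact evA_pt p x _
  obtain ⟨y, hy⟩ := exists_map_eq_of_range g x V ((lifts_iff x V).mpr hxV) (fun u hu => hu)
  obtain ⟨χ, hχ⟩ := Spec.map_surjective (ev p y)
  have hc : φ ≫ χ = CommRingCat.ofHom (th p x) := by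
    apply Spec.map_injective
    rw [← cancel_mono U.left.isoSpec.inv, Spec.map_comp, Category.assoc]
    rw [hχ]
    show ev p y ≫ g.left = evA p x
    rw [ev_map, hy, ev_eq_evA]
  refine ⟨χ.hom P.X, ?_⟩
  have h0 := congrArg χ.hom (show aeval P.X F = 0 from P.hasMap_X.1)
  rw [map_zero, aeval_def, hom_eval₂] at h0
  rw [← hFf, Polynomial.eval_map]
  refine Eq.trans ?_ h0
  congr 1
  exact (congrArg CommRingCat.Hom.hom hc).symm

noncomputable def top' (S : Scheme.{u}) : S.Etale := MorphismProperty.Over.mk ⊤ (𝟙 S) inferInstance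

noncomputable def toTop (U : S.Etale) : U ⟶ top' S := MorphismProperty.Over.homMk U.hom (Category.comp_id _) trivial

lemma exists_top : Nonempty (p.fiber.obj (top' S)) := by
  obtain ⟨⟨U, x⟩⟩ := (inferInstance : IsCofiltered p.fiber.Elements).nonempty
  exact ⟨p.fiber.map (toTop U) x⟩

lemma top_unique (t t' : p.fiber.obj (top' S)) : t = t' := by
  let e1 : p.fiber.Elements := ⟨_, t⟩
  let e2 : p.fiber.Elements := ⟨_, t'⟩
  obtain ⟨⟨T', u'⟩, ⟨α, hα⟩, ⟨β, hβ⟩, -⟩ := IsCofilteredOrEmpty.cone_objs e1 e2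
  have : α = β := by
    apply MorphismProperty.Over.Hom.ext
    have h1 := MorphismProperty.Over.w α
    have h2 := MorphismProperty.Over.w β
    exact (Category.comp_id _).symm.trans (h1.trans (h2.symm.trans (Category.comp_id _)))
  exact hα.symm.trans ((congrArg (fun k => p.fiber.map k u') this).trans hβ)

noncomputable def xi : Spec (CommRingCat.of (Om p)) ⟶ S := ev p (exists_top p).some

lemma ev_xi {U : S.Etale} (x : p.fiber.obj U) : ev p x ≫ U.hom = xi p := by
  show ev p x ≫ (toTop U).left = ev p (exists_top p).some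
  rw [ev_map, top_unique p (p.fiber.map (toTop U) x) (exists_top p).some]

lemma eq_zero_iff_notMem {X : Scheme.{u}} {K : Type u} [Field K] (q : Spec (CommRingCat.of K) ⟶ X)
    (d : Γ(X, ⊤)) : q.appTop d = 0 ↔ q default ∉ X.basicOpen d := by
  have hmem : q default ∈ X.basicOpen d ↔ default ∈ (Spec (CommRingCat.of K)).basicOpen (q.appTop d) := by
    rw [← Scheme.preimage_basicOpen_top]; rfl
  rw [hmem]
  constructor
  · intro h; rw [h]; simp
  · intro h
    by_contra hne
    have h2 : (Scheme.ΓSpecIso (CommRingCat.of K)).hom (q.appTop d) ≠ 0 := fun h' =>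
      hne ((Scheme.ΓSpecIso (CommRingCat.of K)).commRingCatIsoToRingEquiv.injective (h'.trans (map_zero _).symm))
    refine h ?_
    rw [Scheme.basicOpen_of_isUnit]
    · trivial
    · exact (isUnit_map_iff (Scheme.ΓSpecIso (CommRingCat.of K)).commRingCatIsoToRingEquiv _).mp
        (isUnit_iff_ne_zero.mpr h2)

lemma ev_injective {Z : S.Etale} (z z' : p.fiber.obj Z) (h : ev p z = ev p z') : z = z' := by
  obtain ⟨T, t, α, β, hα, hβ, -⟩ := exists_refine p (toTop Z) (toTop Z) z z' (top_unique p _ _)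
  have hw : α.left ≫ Z.hom = β.left ≫ Z.hom :=
    (MorphismProperty.Over.w α).trans (MorphismProperty.Over.w β).symm
  haveI : IsOpenImmersion (pullback.diagonal Z.hom) := by
    haveI : Etale Z.hom := Z.prop
    infer_instance
  let E := pullback.fst (pullback.lift α.left β.left hw) (pullback.diagonal Z.hom)
  have hE : E ≫ α.left = E ≫ β.left := by
    have := pullback.condition (f := pullback.lift α.left β.left hw) (g := pullback.diagonal Z.hom)
    have h1 := congrArg (· ≫ pullback.fst Z.hom Z.hom) this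
    have h2 := congrArg (· ≫ pullback.snd Z.hom Z.hom) this
    simp [Category.assoc] at h1 h2
    exact h1.trans h2.symm
  have hpt : pt p t ∈ E.opensRange := by
    let l := pullback.lift (f := pullback.lift α.left β.left hw) (g := pullback.diagonal Z.hom)
      (ev p t) (ev p t ≫ α.left) (by
        apply pullback.hom_ext
        · simp
        · simp only [Category.assoc, pullback.lift_snd, pullback.diagonal_snd, Category.comp_id]
          rw [ev_map, ev_map, hα, hβ, h])
    refine ⟨l default, ?_⟩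
    show (l ≫ E) default = pt p t
    rw [pullback.lift_fst]
    exact ev_pt p t _
  obtain ⟨t', ht'⟩ := (lifts_iff t E.opensRange).mpr hpt
  rw [← hα, ← hβ, ← ht', ← Functor.map_comp_apply, ← Functor.map_comp_apply]
  refine congrArg (fun k => p.fiber.map k t') ?_
  apply MorphismProperty.Over.Hom.ext
  show E.opensRange.ι ≫ α.left = E.opensRange.ι ≫ β.left
  rw [← E.isoOpensRange_inv_comp, Category.assoc, Category.assoc, hE]

lemma ev_surjective {Z : S.Etale} (l : Spec (CommRingCat.of (Om p)) ⟶ Z.left) (hl : l ≫ Z.hom = xi p) :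
    ∃ z : p.fiber.obj Z, ev p z = l := by
  classical
  haveI : Etale Z.hom := Z.prop
  obtain ⟨A, hA, hsA, -⟩ := exists_isAffineOpen_mem_and_subset
    (U := (⊤ : S.Opens)) (x := Z.hom (l default)) trivial
  obtain ⟨B, hB, hzB, hBA⟩ := exists_isAffineOpen_mem_and_subset
    (U := Z.hom ⁻¹ᵁ A) (x := l default) hsA
  haveI : IsAffine A.toScheme := hA
  haveI : IsAffine B.toScheme := hB
  let k : B.toScheme ⟶ A.toScheme := Z.hom.resLE A B hBA
  haveI : LocallyOfFiniteType k := inferInstance
  have hft : k.appTop.hom.FiniteType := HasRingHomProperty.appTop (P := @LocallyOfFiniteType) k inferInstance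
  letI : Algebra Γ(A.toScheme, ⊤) Γ(B.toScheme, ⊤) := k.appTop.hom.toAlgebra
  obtain ⟨G, hG⟩ : (⊤ : Subalgebra Γ(A.toScheme, ⊤) Γ(B.toScheme, ⊤)).FG := Algebra.FiniteType.out (self := hft)
  have hlB : Set.range l ⊆ Set.range B.ι := by
    rintro _ ⟨a, rfl⟩
    rw [Scheme.Opens.range_ι, Subsingleton.elim a default]
    exact hzB
  let lB := IsOpenImmersion.lift B.ι l hlB
  have hlB' : lB ≫ B.ι = l := IsOpenImmersion.lift_fac _ _ _
  let sp := (Scheme.ΓSpecIso (CommRingCat.of (Om p))).hom
  obtain ⟨U₀, _, ⟨x₀⟩⟩ := exists_affine_elem p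
  obtain ⟨U, _, x, hh, -, hcs⟩ := exists_elem_range p x₀ (G.image fun b => sp (lB.appTop b))
  haveI : Etale U.hom := U.prop
  have hcomm : ev p x ≫ U.hom = lB ≫ B.ι ≫ Z.hom := by rw [ev_xi, reassoc_of% hlB', hl]
  let Wl := pullback U.hom (B.ι ≫ Z.hom)
  let pr1 : Wl ⟶ U.left := pullback.fst _ _
  let pr2 : Wl ⟶ B.toScheme := pullback.snd _ _
  let q := pullback.lift (ev p x) lB hcomm
  haveI : Etale pr1 := MorphismProperty.pullback_fst _ _ (MorphismProperty.comp_mem _ _ _ inferInstance inferInstance)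
  obtain ⟨O, hO, hOw⟩ : ∃ O : Set Wl, IsOpen O ∧ O ∩ pr1 ⁻¹' {pr1 (q default)} = {q default} := by
    have hd := pr1.isDiscrete_preimage_singleton (pr1 (q default))
    exact isDiscrete_iff_forall_exists_isOpen.mp hd (q default) rfl
  let O' : Wl.Opens := ⟨O, hO⟩
  let W : S.Etale := MorphismProperty.Over.mk ⊤ (O'.ι ≫ pr1 ≫ U.hom) inferInstance
  let g : W ⟶ U := MorphismProperty.Over.homMk (O'.ι ≫ pr1) (Category.assoc _ _ _) trivial
  let m : W ⟶ Z := MorphismProperty.Over.homMk (O'.ι ≫ pr2 ≫ B.ι) (by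
    show (O'.ι ≫ pr2 ≫ B.ι) ≫ Z.hom = O'.ι ≫ pr1 ≫ U.hom
    simp only [Category.assoc]
    rw [pullback.condition]) trivial
  have hq1 : pr1 (q default) = pt p x := by
    rw [← ev_pt p x default]
    exact congrArg (fun k => k default) (pullback.lift_fst (ev p x) lB hcomm)
  let V : U.left.Opens := ⟨Set.range (O'.ι ≫ pr1), (O'.ι ≫ pr1).isOpenMap.isOpen_range⟩
  have hqO : q default ∈ O := by
    have : q default ∈ O ∩ pr1 ⁻¹' {pr1 (q default)} := by rw [hOw]; rfl
    exact this.1
  obtain ⟨y, hy⟩ := exists_map_eq_of_range g x V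
    ((lifts_iff x V).mpr ⟨⟨q default, hqO⟩, hq1⟩) (fun u hu => hu)
  let q' : Spec (CommRingCat.of (Om p)) ⟶ Wl := ev p y ≫ O'.ι
  have hq'1 : q' ≫ pr1 = ev p x := by
    rw [Category.assoc]
    exact (ev_map p g y).trans (congrArg (ev p) hy)
  have hq' : q' default = q default := by
    have : q' default ∈ O ∩ pr1 ⁻¹' {pr1 (q default)} := by
      refine ⟨((ev p y) default).2, ?_⟩
      show pr1 (q' default) = pr1 (q default)
      rw [hq1, ← ev_pt p x default, ← hq'1]
      rfl
    rw [hOw] at this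
    exact this
  have hgen : ∀ b ∈ G, (q' ≫ pr2).appTop b = lB.appTop b := by
    intro b hb
    obtain ⟨c, hc⟩ := hcs _ (Finset.mem_image_of_mem _ hb)
    have hx : (ev p x).appTop c = lB.appTop b := by
      rw [ev_eq_evA, evA_appTop, hc]
      exact Iso.hom_inv_id_apply _ _
    let d : Γ(Wl, ⊤) := pr1.appTop c - pr2.appTop b
    have h0 : q.appTop d = 0 := by
      rw [map_sub, sub_eq_zero, ← CommRingCat.comp_apply, ← CommRingCat.comp_apply,
        ← Scheme.Hom.comp_appTop, ← Scheme.Hom.comp_appTop, pullback.lift_fst, pullback.lift_snd, hx]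
    have h1 : q'.appTop d = 0 := by
      rw [eq_zero_iff_notMem, hq', ← eq_zero_iff_notMem]; exact h0
    rw [map_sub, sub_eq_zero, ← CommRingCat.comp_apply, ← CommRingCat.comp_apply,
      ← Scheme.Hom.comp_appTop, ← Scheme.Hom.comp_appTop, hq'1, hx] at h1
    exact h1.symm
  have hbase : (q' ≫ pr2) ≫ k = lB ≫ k := by
    rw [← cancel_mono A.ι]
    simp only [Category.assoc, k, Scheme.Hom.resLE_comp_ι]
    rw [← pullback.condition, ← Category.assoc, hq'1, hcomm]
  have heq : q' ≫ pr2 = lB := by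
    apply ext_of_isAffine
    ext b
    have hb : b ∈ Algebra.adjoin Γ(A.toScheme, ⊤) (G : Set Γ(B.toScheme, ⊤)) := by rw [hG]; trivial
    induction hb using Algebra.adjoin_induction with
    | mem b hb => exact hgen b hb
    | algebraMap r =>
      show (k.appTop ≫ (q' ≫ pr2).appTop) r = (k.appTop ≫ lB.appTop) r
      rw [← Scheme.Hom.comp_appTop, hbase, ← Scheme.Hom.comp_appTop]
    | add a b _ _ ha hb => rw [map_add, map_add, ha, hb]
    | mul a b _ _ ha hb => rw [map_mul, map_mul, ha, hb]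
  refine ⟨p.fiber.map m y, ?_⟩
  rw [← ev_map]
  show ev p y ≫ O'.ι ≫ pr2 ≫ B.ι = l
  rw [← hlB', ← heq]
  simp [q']

theorem exists_geometric : ∃ (Ω : Type u) (_ : Field Ω) (_ : IsSepClosed Ω)
    (ξ : Spec (CommRingCat.of Ω) ⟶ S), Nonempty (p.fiber ≅ (Scheme.pointSmallEtale ξ).fiber) := by
  refine ⟨Om p, inferInstance, isSepClosed_Om p, xi p, ⟨NatIso.ofComponents (fun Z =>
    (Equiv.ofBijective (fun z => (Over.homMk (ev p z) (ev_xi p z) :
      Over.mk (xi p) ⟶ (Scheme.Etale.forget S).obj Z)) ⟨?_, ?_⟩).toIso) ?_⟩⟩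
  · intro z z' h
    exact ev_injective p z z' (congrArg CommaMorphism.left h)
  · intro l
    obtain ⟨z, hz⟩ := ev_surjective p l.left (Over.w l)
    exact ⟨z, by ext : 1; exact hz⟩
  · intro Z Z' f
    ext z
    apply Over.OverMorphism.ext
    exact (ev_map p f z).symm

end Groth.Agent.EtPtLib
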