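import Mathlib

set_option linter.all false
set_option backward.isDefEq.respectTransparency false
set_option backward.isDefEq.respectTransparency.types false

universe u

open CategoryTheory Limits AlgebraicGeometry Opposite TopologicalSpace

namespace Groth.Agent.EtPtLib

variable {S : Scheme.{u}}

abbrev opn (U : S.Etale) (V : U.left.Opens) : S.Etale :=
  MorphismProperty.Over.mk ⊤ (V.ι ≫ U.hom) inferInstance

def incl (U : S.Etale) (V : U.left.Opens) : opn U V ⟶ U :=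
  MorphismProperty.Over.homMk V.ι rfl trivial

@[simp] lemma incl_left (U : S.Etale) (V : U.left.Opens) : (incl U V).left = V.ι := rfl

instance (U : S.Etale) (V : U.left.Opens) : Mono (incl U V) := by
  refine ⟨fun a b h => ?_⟩
  apply MorphismProperty.Over.Hom.ext
  have := congrArg (fun k => k.left) h
  exact (cancel_mono V.ι).mp this

lemma exists_factor {T U : S.Etale} (h : T ⟶ U) (V : U.left.Opens)
    (hV : ∀ t : T.left, h.left t ∈ V) : ∃ k : T ⟶ opn U V, k ≫ incl U V = h := by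
  have hr : Set.range h.left ⊆ Set.range V.ι := by
    rintro _ ⟨t, rfl⟩
    rw [Scheme.Opens.range_ι]
    exact hV t
  refine ⟨MorphismProperty.Over.homMk (IsOpenImmersion.lift V.ι h.left hr) ?_ trivial, ?_⟩
  · show IsOpenImmersion.lift V.ι h.left hr ≫ V.ι ≫ U.hom = T.hom
    rw [IsOpenImmersion.lift_fac_assoc]
    exact MorphismProperty.Over.w h
  · apply MorphismProperty.Over.Hom.ext
    exact IsOpenImmersion.lift_fac _ _ _

variable (p : GrothendieckTopology.Point.{u} S.smallEtaleTopology)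

lemma exists_refine {A B U : S.Etale} (f : A ⟶ U) (g : B ⟶ U) (a : p.fiber.obj A) (b : p.fiber.obj B)
    (h : p.fiber.map f a = p.fiber.map g b) :
    ∃ (T : S.Etale) (t : p.fiber.obj T) (α : T ⟶ A) (β : T ⟶ B),
      p.fiber.map α t = a ∧ p.fiber.map β t = b ∧ α ≫ f = β ≫ g := by
  let eA : p.fiber.Elements := ⟨A, a⟩
  let eB : p.fiber.Elements := ⟨B, b⟩
  let eU : p.fiber.Elements := ⟨U, p.fiber.map f a⟩
  let f' : eA ⟶ eU := ⟨f, rfl⟩
  let g' : eB ⟶ eU := ⟨g, h.symm⟩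
  obtain ⟨⟨T, t⟩, α, β, hh⟩ := IsCofiltered.cospan f' g'
  exact ⟨T, t, α.val, β.val, α.property, β.property, congrArg (fun k => k.val) hh⟩

def Lifts {U : S.Etale} (x : p.fiber.obj U) (V : U.left.Opens) : Prop :=
  ∃ y : p.fiber.obj (opn U V), p.fiber.map (incl U V) y = x

variable {p}

lemma lifts_of_range {U T : S.Etale} {x : p.fiber.obj U} (h : T ⟶ U) (t : p.fiber.obj T)
    (ht : p.fiber.map h t = x) (V : U.left.Opens) (hV : ∀ a : T.left, h.left a ∈ V) : Lifts p x V := by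
  obtain ⟨k, hk⟩ := exists_factor h V hV
  refine ⟨p.fiber.map k t, ?_⟩
  rw [← ht, ← hk, Functor.map_comp_apply]

lemma Lifts.mono {U : S.Etale} {x : p.fiber.obj U} {V V' : U.left.Opens} (h : Lifts p x V)
    (hle : V ≤ V') : Lifts p x V' := by
  obtain ⟨y, hy⟩ := h
  exact lifts_of_range (incl U V) y hy V' (fun a => hle a.2)

lemma Lifts.inter {U : S.Etale} {x : p.fiber.obj U} {V V' : U.left.Opens} (h : Lifts p x V)
    (h' : Lifts p x V') : Lifts p x (V ⊓ V') := by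
  obtain ⟨y, hy⟩ := h
  obtain ⟨z, hz⟩ := h'
  obtain ⟨T, t, α, β, hα, hβ, he⟩ := exists_refine p (incl U V) (incl U V') y z (hy.trans hz.symm)
  refine lifts_of_range (α ≫ incl U V) t ?_ _ (fun a => ⟨?_, ?_⟩)
  · rw [Functor.map_comp_apply, hα, hy]
  · exact (α.left a).2
  · rw [he]
    exact (β.left a).2

lemma Lifts.exists_of_le_iSup {U : S.Etale} {x : p.fiber.obj U} {V : U.left.Opens} (h : Lifts p x V)
    {ι : Type*} (Vs : ι → U.left.Opens) (hle : V ≤ iSup Vs) : ∃ i, Lifts p x (Vs i) := by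
  obtain ⟨y, hy⟩ := h
  choose k hk using fun i => exists_factor (incl U (V ⊓ Vs i)) V (fun a => a.2.1)
  have hR : Sieve.ofArrows _ k ∈ S.smallEtaleTopology (opn U V) := by
    rw [Scheme.ofArrows_mem_smallEtaleTopology_iff]
    refine Set.eq_univ_of_forall fun a => ?_
    obtain ⟨i, hi⟩ := Opens.mem_iSup.mp (hle a.2)
    refine Set.mem_iUnion.mpr ⟨i, ⟨a.1, a.2, hi⟩, ?_⟩
    apply Subtype.ext
    have := congrArg (fun q => q.left ⟨a.1, a.2, hi⟩) (hk i)
    exact this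
  obtain ⟨Y, g, hg, y', hy'⟩ := p.jointly_surjective _ hR y
  obtain ⟨i, a, rfl⟩ := (Sieve.mem_ofArrows_iff _ _ _).mp hg
  refine ⟨i, lifts_of_range (incl U (V ⊓ Vs i)) (p.fiber.map a y') ?_ _ (fun b => b.2.2)⟩
  rw [← hk i, Functor.map_comp_apply, ← hy, ← hy', Functor.map_comp_apply]

lemma exists_map_eq_of_range {W U : S.Etale} (g : W ⟶ U) (x : p.fiber.obj U) (V : U.left.Opens)
    (h : Lifts p x V) (hV : ∀ u ∈ V, ∃ w, g.left w = u) : ∃ w : p.fiber.obj W, p.fiber.map g w = x := by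
  obtain ⟨y, hy⟩ := h
  obtain ⟨k, hk⟩ := exists_factor (incl W (g.left ⁻¹ᵁ V) ≫ g) V (fun a => a.2)
  have hR : Sieve.ofArrows (fun _ : PUnit.{1} => opn W (g.left ⁻¹ᵁ V)) (fun _ => k) ∈ S.smallEtaleTopology (opn U V) := by
    rw [Scheme.ofArrows_mem_smallEtaleTopology_iff]
    refine Set.eq_univ_of_forall fun a => ?_
    obtain ⟨w, hw⟩ := hV a.1 a.2
    have hwV : w ∈ g.left ⁻¹ᵁ V := by
      show g.left w ∈ V
      rw [hw]; exact a.2
    refine Set.mem_iUnion.mpr ⟨PUnit.unit, ⟨w, hwV⟩, ?_⟩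
    apply Subtype.ext
    exact (congrArg (fun q => q.left ⟨w, hwV⟩) hk).trans hw
  obtain ⟨Y, g', hg, y', hy'⟩ := p.jointly_surjective _ hR y
  obtain ⟨i, a, rfl⟩ := (Sieve.mem_ofArrows_iff _ _ _).mp hg
  refine ⟨p.fiber.map (incl W (g.left ⁻¹ᵁ V)) (p.fiber.map a y'), ?_⟩
  rw [← hy, ← hy', Functor.map_comp_apply, ← Functor.map_comp_apply, ← hk, Functor.map_comp_apply]

lemma lifts_top {U : S.Etale} (x : p.fiber.obj U) : Lifts p x ⊤ :=
  let ⟨k, hk⟩ := exists_factor (𝟙 U) ⊤ (fun _ => Opens.mem_top _)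
  ⟨p.fiber.map k x, by rw [← Functor.map_comp_apply, hk, Functor.map_id_apply]⟩

lemma exists_pt {U : S.Etale} (x : p.fiber.obj U) :
    ∃ u : U.left, ∀ V : U.left.Opens, Lifts p x V ↔ u ∈ V := by
  let M : U.left.Opens := ⨆ V : {V : U.left.Opens // ¬ Lifts p x V}, V.1
  have hM : ¬ Lifts p x M := fun h => by
    obtain ⟨i, hi⟩ := h.exists_of_le_iSup _ le_rfl
    exact i.2 hi
  have hiff : ∀ V : U.left.Opens, Lifts p x V ↔ ((V : Set U.left) ∩ (M : Set U.left)ᶜ).Nonempty := by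
    intro V
    constructor
    · intro h
      by_contra hne
      refine hM (h.mono fun a ha => ?_)
      by_contra haM
      exact hne ⟨a, ha, haM⟩
    · rintro ⟨a, ha, haM⟩
      by_contra h
      exact haM (Opens.mem_iSup.mpr ⟨⟨V, h⟩, ha⟩)
  have hirr : IsIrreducible (M : Set U.left)ᶜ := by
    refine ⟨?_, ?_⟩
    · obtain ⟨a, -, ha⟩ := (hiff ⊤).mp (lifts_top x)
      exact ⟨a, ha⟩
    · rintro O O' hO hO' ⟨a, ha, ha'⟩ ⟨b, hb, hb'⟩
      have h1 := (hiff ⟨O, hO⟩).mpr ⟨a, ha', ha⟩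
      have h2 := (hiff ⟨O', hO'⟩).mpr ⟨b, hb', hb⟩
      obtain ⟨c, hc, hcM⟩ := (hiff _).mp (h1.inter h2)
      exact ⟨c, hcM, hc⟩
  obtain ⟨u, hu⟩ := QuasiSober.sober hirr M.isOpen.isClosed_compl
  refine ⟨u, fun V => ?_⟩
  rw [hiff]
  exact (Set.inter_comm _ _ ▸ (hu.mem_open_set_iff V.isOpen).symm)

variable (p)

noncomputable def pt {U : S.Etale} (x : p.fiber.obj U) : U.left := (exists_pt x).choose

variable {p}

lemma lifts_iff {U : S.Etale} (x : p.fiber.obj U) (V : U.left.Opens) : Lifts p x V ↔ pt p x ∈ V :=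
  (exists_pt x).choose_spec V

lemma pt_map {U U' : S.Etale} (f : U ⟶ U') (x : p.fiber.obj U) :
    pt p (p.fiber.map f x) = f.left (pt p x) := by
  refine Inseparable.eq (inseparable_iff_forall_isOpen.mpr fun O hO => ?_)
  let V : U'.left.Opens := ⟨O, hO⟩
  show pt p (p.fiber.map f x) ∈ V ↔ pt p x ∈ f.left ⁻¹ᵁ V
  rw [← lifts_iff, ← lifts_iff]
  constructor
  · rintro ⟨y, hy⟩
    obtain ⟨T, t, α, β, hα, hβ, he⟩ := exists_refine p f (incl U' V) x y hy.symm
    refine lifts_of_range α t hα _ (fun a => ?_)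
    show f.left (α.left a) ∈ V
    have := congrArg (fun q => q.left a) he
    exact this ▸ (β.left a).2
  · rintro ⟨y, hy⟩
    exact lifts_of_range (incl U (f.left ⁻¹ᵁ V) ≫ f) y (by rw [Functor.map_comp_apply, hy]) V
      (fun a => a.2)

lemma exists_affine {U : S.Etale} (x : p.fiber.obj U) (V : U.left.Opens) (hV : pt p x ∈ V) :
    ∃ (W : U.left.Opens), IsAffineOpen W ∧ W ≤ V ∧ pt p x ∈ W ∧
      ∃ y : p.fiber.obj (opn U W), p.fiber.map (incl U W) y = x := by
  obtain ⟨W, hW, hxW, hWV⟩ := exists_isAffineOpen_mem_and_subset hV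
  exact ⟨W, hW, hWV, hxW, (lifts_iff x W).mpr hxW⟩

end Groth.Agent.EtPtLib
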