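import Groth.Agent.EtPtLib.Basic

set_option linter.all false
set_option backward.isDefEq.respectTransparency false
set_option backward.isDefEq.respectTransparency.types false

universe u

open CategoryTheory Limits AlgebraicGeometry Opposite TopologicalSpace

namespace Groth.Agent.EtPtLib

variable {S : Scheme.{u}} (p : GrothendieckTopology.Point.{u} S.smallEtaleTopology)

noncomputable def Opsh (S : Scheme.{u}) : (S.Etale)ᵒᵖ ⥤ CommRingCat.{u} :=
  (Scheme.Etale.forget S ⋙ Over.forget S).op ⋙ Scheme.Γ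

noncomputable abbrev OP : CommRingCat.{u} := p.presheafFiber.obj (Opsh S)

noncomputable def toOP {U : S.Etale} (x : p.fiber.obj U) : Γ(U.left, ⊤) →+* OP p :=
  (p.toPresheafFiber U x (Opsh S)).hom

lemma toOP_map {U U' : S.Etale} (f : U ⟶ U') (x : p.fiber.obj U) (a : Γ(U'.left, ⊤)) :
    toOP p x (f.left.appTop a) = toOP p (p.fiber.map f x) a :=
  congrArg (fun k => (ConcreteCategory.hom k) a) (p.toPresheafFiber_w f x (Opsh S))

lemma exists_toOP (q : OP p) : ∃ (U : S.Etale) (x : p.fiber.obj U) (a : Γ(U.left, ⊤)), toOP p x a = q := by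
  obtain ⟨U, x, a, h⟩ := p.toPresheafFiber_jointly_surjective q
  exact ⟨U, x, a, h⟩

lemma exists_toOP₂ (q q' : OP p) :
    ∃ (U : S.Etale) (x : p.fiber.obj U) (a a' : Γ(U.left, ⊤)), toOP p x a = q ∧ toOP p x a' = q' := by
  obtain ⟨U, x, a, a', h⟩ := p.toPresheafFiber_jointly_surjective₂ q q'
  exact ⟨U, x, a, a', h⟩

lemma isUnit_toOP_iff {U : S.Etale} (x : p.fiber.obj U) (a : Γ(U.left, ⊤)) :
    IsUnit (toOP p x a) ↔ pt p x ∈ U.left.basicOpen a := by
  constructor
  · intro h
    obtain ⟨b, hb⟩ := h.exists_right_inv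
    obtain ⟨V, v, c, hc⟩ := exists_toOP p b
    obtain ⟨T0, t0, hT0⟩ : ∃ (T0 : S.Etale) (t0 : p.fiber.obj T0),
        ∃ (α : T0 ⟶ U) (β : T0 ⟶ V), p.fiber.map α t0 = x ∧ p.fiber.map β t0 = v := by
      let e1 : p.fiber.Elements := ⟨U, x⟩
      let e2 : p.fiber.Elements := ⟨V, v⟩
      obtain ⟨⟨T0, t0⟩, α, β, -⟩ := IsCofilteredOrEmpty.cone_objs e1 e2
      exact ⟨T0, t0, α.val, β.val, α.property, β.property⟩
    obtain ⟨α, β, hα, hβ⟩ := hT0
    have h1 : toOP p t0 (α.left.appTop a * β.left.appTop c) = toOP p t0 1 := by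
      rw [map_mul, toOP_map, toOP_map, hα, hβ, hc, hb, map_one]
    obtain ⟨Y, f, y, hy, hf⟩ := (p.toPresheafFiber_eq_iff' (P := Opsh S) T0 t0 (α.left.appTop a * β.left.appTop c : Γ(T0.left, ⊤)) (1 : Γ(T0.left, ⊤))).mp h1
    have hu : IsUnit (f.left.appTop (α.left.appTop a)) := by
      refine IsUnit.of_mul_eq_one (f.left.appTop (β.left.appTop c)) ?_
      rw [← map_mul]
      exact hf.trans (map_one (f.left.appTop).hom)
    have hmem : pt p y ∈ Y.left.basicOpen (f.left.appTop (α.left.appTop a)) := by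
      rw [Scheme.basicOpen_of_isUnit _ hu]; trivial
    rw [← hα, ← hy, pt_map, pt_map]
    rw [← Scheme.preimage_basicOpen_top, ← Scheme.preimage_basicOpen_top] at hmem
    exact hmem
  · intro h
    obtain ⟨y, hy⟩ := (lifts_iff x _).mpr h
    rw [← hy, ← toOP_map]
    refine IsUnit.map (toOP p y) ?_
    rw [incl_left, Scheme.Hom.appTop]
    have hu : IsUnit (U.left.presheaf.map (homOfLE (U.left.basicOpen_le a)).op a) :=
      RingedSpace.isUnit_res_basicOpen _ a
    have hu' := hu.map (U.left.presheaf.map (eqToHom (U.left.basicOpen a).ι_image_top).op).hom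
    simp [← CommRingCat.comp_apply, ← Functor.map_comp, ← op_comp] at hu' ⊢
    exact hu'

instance : Nontrivial (OP p) := by
  obtain ⟨⟨U, x⟩⟩ := (inferInstance : IsCofiltered p.fiber.Elements).nonempty
  refine nontrivial_of_ne 0 1 fun h => ?_
  have h0 : IsUnit (toOP p x 0) := by rw [map_zero, h]; exact isUnit_one
  rw [isUnit_toOP_iff] at h0
  simp at h0

instance isLocalRing_OP : IsLocalRing (OP p) := by
  refine IsLocalRing.of_isUnit_or_isUnit_one_sub_self fun q => ?_
  obtain ⟨U, x, a, rfl⟩ := exists_toOP p q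
  rw [← map_one (toOP p x), ← map_sub, isUnit_toOP_iff, isUnit_toOP_iff]
  simp only [Scheme.mem_basicOpen_top, map_sub, map_one]
  exact IsLocalRing.isUnit_or_isUnit_one_sub_self _

noncomputable abbrev Om : Type u := IsLocalRing.ResidueField (OP p)

noncomputable def th {U : S.Etale} (x : p.fiber.obj U) : Γ(U.left, ⊤) →+* Om p :=
  (IsLocalRing.residue (OP p)).comp (toOP p x)

lemma th_map {U U' : S.Etale} (f : U ⟶ U') (x : p.fiber.obj U) (a : Γ(U'.left, ⊤)) :
    th p x (f.left.appTop a) = th p (p.fiber.map f x) a :=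
  congrArg (IsLocalRing.residue (OP p)) (toOP_map p f x a)

lemma th_ne_zero_iff {U : S.Etale} (x : p.fiber.obj U) (a : Γ(U.left, ⊤)) :
    th p x a ≠ 0 ↔ pt p x ∈ U.left.basicOpen a := by
  rw [← isUnit_toOP_iff]
  exact IsLocalRing.residue_ne_zero_iff_isUnit _

noncomputable def evA {T : S.Etale} [IsAffine T.left] (t : p.fiber.obj T) :
    Spec (CommRingCat.of (Om p)) ⟶ T.left :=
  Spec.map (CommRingCat.ofHom (th p t)) ≫ T.left.isoSpec.inv

lemma evA_map {T T' : S.Etale} [IsAffine T.left] [IsAffine T'.left] (f : T ⟶ T') (t : p.fiber.obj T)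
    (t' : p.fiber.obj T') (h : p.fiber.map f t = t') : evA p t ≫ f.left = evA p t' := by
  subst h
  rw [evA, evA, Category.assoc, ← Scheme.isoSpec_inv_naturality, ← Category.assoc, ← Spec.map_comp]
  congr 2
  ext a
  exact th_map p f t a

lemma evA_appTop {T : S.Etale} [IsAffine T.left] (t : p.fiber.obj T) (a : Γ(T.left, ⊤)) :
    (evA p t).appTop a = (Scheme.ΓSpecIso (CommRingCat.of (Om p))).inv (th p t a) := by
  have : (evA p t).appTop = CommRingCat.ofHom (th p t) ≫ (Scheme.ΓSpecIso (CommRingCat.of (Om p))).inv := by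
    have h2 : T.left.isoSpec.inv.appTop = (Scheme.ΓSpecIso Γ(T.left, ⊤)).inv := by
      rw [← cancel_mono T.left.isoSpec.hom.appTop, ← Scheme.Hom.comp_appTop, Iso.hom_inv_id]
      simp [Scheme.isoSpec, Scheme.toSpecΓ_appTop]
    rw [evA, Scheme.Hom.comp_appTop, h2, Scheme.ΓSpecIso_inv_naturality]
    rfl
  rw [this]
  rfl

lemma evA_pt {T : S.Etale} [IsAffine T.left] (t : p.fiber.obj T) (q : Spec (CommRingCat.of (Om p))) :
    (evA p t) q = pt p t := by
  refine Inseparable.eq (inseparable_iff_forall_isOpen.mpr fun O hO => ?_)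
  let V : T.left.Opens := ⟨O, hO⟩
  show (evA p t) q ∈ V ↔ pt p t ∈ V
  constructor
  · intro hq
    obtain ⟨a, ha, hqa⟩ := (isAffineOpen_top T.left).exists_basicOpen_le ⟨(evA p t) q, hq⟩ trivial
    refine ha ((th_ne_zero_iff p t a).mp fun h0 => ?_)
    have hq' : q ∈ (evA p t) ⁻¹ᵁ T.left.basicOpen a := hqa
    rw [Scheme.preimage_basicOpen_top, evA_appTop, h0, map_zero] at hq'
    simp at hq'
  · intro hV
    obtain ⟨W, hW, hWV, hpW, y, hy⟩ := exists_affine t V hV
    haveI : IsAffine (opn T W).left := hW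
    rw [← evA_map p (incl T W) y t hy]
    exact hWV ((evA p y) q).2

lemma exists_evA {U : S.Etale} (x : p.fiber.obj U) :
    ∃ e : Spec (CommRingCat.of (Om p)) ⟶ U.left, ∀ (T : S.Etale) [IsAffine T.left] (t : p.fiber.obj T)
      (h : T ⟶ U), p.fiber.map h t = x → evA p t ≫ h.left = e := by
  obtain ⟨W, hW, -, -, y, hy⟩ := exists_affine x ⊤ trivial
  haveI : IsAffine (opn U W).left := hW
  refine ⟨evA p y ≫ (incl U W).left, fun T _ t h ht => ?_⟩
  obtain ⟨T', t', α, β, hα, hβ, he⟩ := exists_refine p h (incl U W) t y (ht.trans hy.symm)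
  obtain ⟨W', hW', -, -, z, hz⟩ := exists_affine t' ⊤ trivial
  haveI : IsAffine (opn T' W').left := hW'
  rw [← evA_map p (incl T' W' ≫ α) z t (by rw [Functor.map_comp_apply, hz, hα]),
    ← evA_map p (incl T' W' ≫ β) z y (by rw [Functor.map_comp_apply, hz, hβ]), Category.assoc, Category.assoc]
  congr 1
  exact congrArg (fun k => (incl T' W' ≫ k).left) he |>.trans rfl

noncomputable def ev {U : S.Etale} (x : p.fiber.obj U) : Spec (CommRingCat.of (Om p)) ⟶ U.left :=
  (exists_evA p x).choose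

lemma ev_eq {U T : S.Etale} [IsAffine T.left] (x : p.fiber.obj U) (t : p.fiber.obj T) (h : T ⟶ U)
    (ht : p.fiber.map h t = x) : ev p x = evA p t ≫ h.left :=
  ((exists_evA p x).choose_spec T t h ht).symm

lemma ev_eq_evA {T : S.Etale} [IsAffine T.left] (t : p.fiber.obj T) : ev p t = evA p t := by
  rw [ev_eq p t t (𝟙 T) (Functor.map_id_apply _ _ _)]
  exact Category.comp_id _

lemma ev_map {U U' : S.Etale} (f : U ⟶ U') (x : p.fiber.obj U) :
    ev p x ≫ f.left = ev p (p.fiber.map f x) := by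
  obtain ⟨W, hW, -, -, y, hy⟩ := exists_affine x ⊤ trivial
  haveI : IsAffine (opn U W).left := hW
  rw [ev_eq p x y (incl U W) hy, ev_eq p (p.fiber.map f x) y (incl U W ≫ f)
    (by rw [Functor.map_comp_apply, hy]), Category.assoc]
  rfl

lemma ev_pt {U : S.Etale} (x : p.fiber.obj U) (q : Spec (CommRingCat.of (Om p))) :
    (ev p x) q = pt p x := by
  obtain ⟨W, hW, -, -, y, hy⟩ := exists_affine x ⊤ trivial
  haveI : IsAffine (opn U W).left := hW
  rw [ev_eq p x y (incl U W) hy, ← hy, pt_map]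
  exact congrArg (incl U W).left (evA_pt p y q)

end Groth.Agent.EtPtLib
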